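import Groth.Agent.H05EGA4.EtCl.Mixed.NormSurj
import Groth.Agent.H05EGA4.EtCl.BrauerNorm

/-!
# Fraction fields of strictly henselian discrete valuation rings in mixed characteristic
-/

set_option autoImplicit false
set_option linter.style.haveILetI false
set_option linter.unusedSectionVars false
set_option linter.overlappingInstances false
set_option backward.isDefEq.respectTransparency false
set_option backward.isDefEq.respectTransparency.types false

universe u

open CategoryTheory AlgebraicGeometry
open scoped Classical

namespace Groth.Agent.H05EGA4.EtCl.Mixed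

variable (R K : Type u) [CommRing R] [IsDomain R] [IsDiscreteValuationRing R] [HenselianLocalRing R]
  [IsAlgClosed (IsLocalRing.ResidueField R)] [Field K] [Algebra R K] [IsFractionRing R K]
  (p : ℕ) [hp : Fact p.Prime] (hpR : (p : R) ∈ IsLocalRing.maximalIdeal R) (hpK : (p : K) ≠ 0)

include R hpR hpK in
/-- Norms are surjective. -/
theorem normSurj : S7732.NormSurj K p := by
  refine BrauerNorm.normSurj_of_finite K p fun M _ _ _ _ L _ _ _ _ hL x hx => ?_
  letI : Algebra R M := ((algebraMap K M).comp (algebraMap R K)).toAlgebra
  haveI : IsScalarTower R K M := IsScalarTower.of_algebraMap_eq' rfl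
  let O := integralClosure R M
  haveI : IsDedekindDomain O := IsIntegralClosure.isDedekindDomain R K M O
  haveI : IsLocalRing O := H7Flat.FlatTransfer.isLocalRing_integralClosure R M
  haveI : FaithfulSMul R M := (faithfulSMul_iff_algebraMap_injective R M).2
    ((algebraMap K M).injective.comp (IsFractionRing.injective R K))
  have hnf : ¬ IsField O := fun hfld => IsDiscreteValuationRing.not_isField R
    (isField_of_isIntegral_of_isField (FaithfulSMul.algebraMap_injective R O) hfld)
  have htfae : IsDiscreteValuationRing O ↔ IsDedekindDomain O :=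
    (IsDiscreteValuationRing.TFAE O hnf).out 0 2
  haveI : IsDiscreteValuationRing O := htfae.2 inferInstance
  haveI : IsLocalHom (algebraMap R O) :=
    (algebraMap_isIntegral_iff.mpr (inferInstance : Algebra.IsIntegral R O)).isLocalHom
      (FaithfulSMul.algebraMap_injective R O)
  obtain ⟨hH, halg⟩ := H9Hens.henselian_of_isIntegral (R := R) (T := O)
  haveI := hH
  haveI := halg
  haveI : IsAlgClosed (IsLocalRing.ResidueField O) :=
    IsAlgClosed.of_ringEquiv _ _ (RingEquiv.ofBijective (algebraMap (IsLocalRing.ResidueField R) (IsLocalRing.ResidueField O))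
      IsAlgClosed.algebraMap_bijective_of_isIntegral)
  have hpO : (p : O) ∈ IsLocalRing.maximalIdeal O := fun h => hpR
    ((isUnit_map_iff (algebraMap R O) _).1 (by rwa [map_natCast]))
  haveI : IsFractionRing O M := IsIntegralClosure.isFractionRing_of_finite_extension R K M O
  exact exists_norm_eq (O := O) (M := M) (L := L) p hL hpO
    (fun h => hpK ((algebraMap K M).injective (by rw [map_natCast, h, map_zero]))) x hx

include R hpR hpK in
/-- **`cd_p ≤ 1`.** -/
theorem cohDimLEAt_one : Dix.CohDimLEAt (Spec (CommRingCat.of K)) p 1 :=
  Fields.cohDimLEAt_one K p hp.out (normSurj R K p hpR hpK)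

end Groth.Agent.H05EGA4.EtCl.Mixed
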