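import Groth.Agent.H05EGA4.EtCl.DvrTame
import Mathlib.RingTheory.MvPolynomial.Symmetric.NewtonIdentities
import Mathlib.RingTheory.Norm.Transitivity
import Mathlib.RingTheory.IntegralClosure.IntegrallyClosed
import Mathlib.FieldTheory.IsAlgClosed.Basic
import Mathlib.RingTheory.Nakayama

/-!
# Norms in the wild case

Norms of cyclic extensions of degree `p` of the fraction field of a henselian discrete valuation ring with
algebraically closed residue field of characteristic `p` are surjective when `p ≠ 0` in the fraction field.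
-/

set_option autoImplicit false
set_option linter.style.haveILetI false
set_option linter.unusedSectionVars false
set_option linter.overlappingInstances false
set_option backward.isDefEq.respectTransparency false
set_option backward.isDefEq.respectTransparency.types false

universe u

open Polynomial
open scoped Classical

namespace Groth.Agent.H05EGA4.EtCl.Mixed

variable (O : Type u) [CommRing O] [IsDomain O] [IsDiscreteValuationRing O]

/-- Elements very close to one are `p`-th powers. -/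
theorem exists_pow_eq_one_add [HenselianLocalRing O] (p : ℕ) [hp : Fact p.Prime] (hpm : (p : O) ∈ IsLocalRing.maximalIdeal O)
    {ε : O} (hε : ε ∈ IsLocalRing.maximalIdeal O) : ∃ x : O, x ^ p = 1 + (p : O) ^ 2 * ε := by
  let d : ℕ → O := fun k => (p.choose k : O) * (p : O) ^ (k - 2) * ε ^ (k - 1)
  let r : O[X] := -X ^ (p - 1) - ∑ k ∈ Finset.Icc 2 p, C (d k) * X ^ (p - k)
  have hd : ∀ k ∈ Finset.Icc 2 p, d k ∈ IsLocalRing.maximalIdeal O := fun k hk =>
    Ideal.mul_mem_left _ _ (Ideal.pow_mem_of_mem _ hε _ (by rw [Finset.mem_Icc] at hk; omega))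
  have hr : r.degree < (p : ℕ) := by
    refine lt_of_le_of_lt (degree_le_natDegree) ?_
    refine WithBot.coe_lt_coe.2 (lt_of_le_of_lt (natDegree_sub_le_of_le (n := p - 1) (m := p - 1) ?_ ?_) ?_)
    · rw [natDegree_neg, natDegree_X_pow]
    · refine natDegree_sum_le_of_forall_le _ _ fun k hk => (natDegree_C_mul_X_pow_le _ _).trans ?_
      rw [Finset.mem_Icc] at hk
      omega
    · rw [max_self]
      exact Nat.sub_lt hp.out.pos one_pos
  let F : O[X] := X ^ p + r
  have hF : F.Monic := monic_X_pow_add hr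
  have h0 : F.eval 1 ∈ IsLocalRing.maximalIdeal O := by
    have : F.eval 1 = -∑ k ∈ Finset.Icc 2 p, d k := by
      simp [F, r, eval_finsetSum]
      ring
    rw [this]
    exact neg_mem (Ideal.sum_mem _ hd)
  have h1 : IsUnit (F.derivative.eval 1) := by
    have : F.derivative.eval 1 = (p : O) - ((p - 1 : ℕ) : O) - ∑ k ∈ Finset.Icc 2 p, d k * ((p - k : ℕ) : O) := by
      simp [F, r, derivative_X_pow, derivative_sum, eval_finsetSum]
      ring
    rw [this, Nat.cast_sub hp.out.one_le, Nat.cast_one, sub_sub_cancel]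
    rw [← IsLocalRing.residue_ne_zero_iff_isUnit, map_sub, map_one,
      (IsLocalRing.residue_eq_zero_iff _).2 (Ideal.sum_mem _ fun k hk => Ideal.mul_mem_right _ _ (hd k hk)), sub_zero]
    exact one_ne_zero
  obtain ⟨v, hv, hv1⟩ := HenselianLocalRing.is_henselian F hF 1 h0 h1
  have hvu : IsUnit v := by
    rw [← IsLocalRing.residue_ne_zero_iff_isUnit, ← sub_add_cancel v 1, map_add, map_one,
      (IsLocalRing.residue_eq_zero_iff _).2 hv1, zero_add]
    exact one_ne_zero
  obtain ⟨v, rfl⟩ := hvu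
  let w : O := ↑v⁻¹
  have hvw : (v : O) * w = 1 := v.mul_inv
  refine ⟨1 + p * ε * w, ?_⟩
  have hroot : (v : O) ^ p - (v : O) ^ (p - 1) - ∑ k ∈ Finset.Icc 2 p, d k * (v : O) ^ (p - k) = 0 := by
    have := hv.eq_zero
    simp only [F, r, eval_add, eval_sub, eval_neg, eval_pow, eval_X, eval_finsetSum, eval_mul, eval_C] at this
    linear_combination this
  have hw : 1 - w - ∑ k ∈ Finset.Icc 2 p, d k * w ^ k = 0 := by
    have h2 := congrArg (w ^ p * ·) hroot
    simp only [mul_zero, mul_sub, Finset.mul_sum] at h2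
    have e1 : w ^ p * (v : O) ^ p = 1 := by rw [← mul_pow, mul_comm, hvw, one_pow]
    have e2 : ∀ k, k ≤ p → w ^ p * (v : O) ^ (p - k) = w ^ k := fun k hk => by
      obtain ⟨j, rfl⟩ := Nat.exists_eq_add_of_le hk
      rw [Nat.add_sub_cancel_left, pow_add, mul_assoc, ← mul_pow, mul_comm w, hvw, one_pow, mul_one]
    rw [e1, e2 1 hp.out.one_le, pow_one] at h2
    refine Eq.trans ?_ h2
    congr 1
    refine Finset.sum_congr rfl fun k hk => ?_
    rw [mul_left_comm, e2 k (Finset.mem_Icc.1 hk).2]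
  have hsplit : Finset.range (p + 1) = insert 0 (insert 1 (Finset.Icc 2 p)) := by
    have := hp.out.two_le
    ext k
    simp only [Finset.mem_range, Finset.mem_insert, Finset.mem_Icc]
    omega
  rw [add_comm (1 : O), add_pow, hsplit, Finset.sum_insert (by simp), Finset.sum_insert (by simp)]
  simp only [pow_zero, pow_one, one_pow, mul_one, one_mul, Nat.choose_zero_right, Nat.cast_one, Nat.choose_one_right]
  rw [Finset.sum_congr rfl (g := fun k => (p : O) ^ 2 * ε * (d k * w ^ k)) fun k hk => ?_, ← Finset.mul_sum]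
  · linear_combination (-((p : O) ^ 2 * ε)) * hw
  · obtain ⟨j, rfl⟩ := Nat.exists_eq_add_of_le (Finset.mem_Icc.1 hk).1
    simp only [d, Nat.add_sub_cancel_left, show 2 + j - 1 = j + 1 by omega]
    ring

variable (M L : Type u) [Field M] [Algebra O M] [IsFractionRing O M] [Field L] [Algebra M L]
  [FiniteDimensional M L] [IsGalois M L] [Algebra O L] [IsScalarTower O M L]

/-- The multiples of `a` in the ground ring, inside the extension. -/
noncomputable def line (a : O) : Submodule O L := Submodule.span O {algebraMap O L a}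

theorem mem_line {a : O} {x : L} : x ∈ line O L a ↔ ∃ c : O, algebraMap O L (a * c) = x := by
  rw [line, Submodule.mem_span_singleton]
  refine exists_congr fun c => ?_
  rw [Algebra.smul_def, ← map_mul, mul_comm]

theorem sum_eq_algebraMap {x : L} (hx : IsIntegral O x) :
    ∃ c : O, algebraMap O L c = ∑ σ : L ≃ₐ[M] L, σ x := by
  have h : IsIntegral O (Algebra.trace M L x) := Algebra.isIntegral_trace hx
  obtain ⟨c, hc⟩ := IsIntegrallyClosed.isIntegral_iff.1 h
  exact ⟨c, by rw [IsScalarTower.algebraMap_apply O M L, hc, trace_eq_sum_automorphisms]⟩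

theorem prod_eq_algebraMap {x : L} (hx : IsIntegral O x) :
    ∃ c : O, algebraMap O M c = Algebra.norm M x ∧ algebraMap O L c = ∏ σ : L ≃ₐ[M] L, σ x := by
  have h : IsIntegral O (Algebra.norm M x) := Algebra.isIntegral_norm M hx
  obtain ⟨c, hc⟩ := IsIntegrallyClosed.isIntegral_iff.1 h
  exact ⟨c, hc, by rw [IsScalarTower.algebraMap_apply O M L, hc, Algebra.norm_eq_prod_automorphisms]⟩

/-- The elementary symmetric function of the conjugates. -/
noncomputable def esum (y : L) (m : ℕ) : L :=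
  ∑ t ∈ Finset.powersetCard m (Finset.univ : Finset (L ≃ₐ[M] L)), ∏ σ ∈ t, σ y

theorem norm_one_add (y : L) (a : O) :
    algebraMap M L (Algebra.norm M (1 + algebraMap O L a * y)) =
      ∑ m ∈ Finset.range (Fintype.card (L ≃ₐ[M] L) + 1), algebraMap O L a ^ m * esum M L y m := by
  rw [Algebra.norm_eq_prod_automorphisms]
  have h : ∀ σ : L ≃ₐ[M] L, σ (1 + algebraMap O L a * y) = 1 + algebraMap O L a * σ y := fun σ => by
    rw [map_add, map_one, map_mul, IsScalarTower.algebraMap_apply O M L, AlgEquiv.commutes]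
  rw [Finset.prod_congr rfl fun σ _ => h σ, Finset.prod_one_add, Finset.sum_powerset]
  refine Finset.sum_congr (by rw [Finset.card_univ]) fun m _ => ?_
  rw [esum, Finset.mul_sum]
  refine Finset.sum_congr rfl fun t ht => ?_
  rw [Finset.prod_mul_distrib, Finset.prod_const, (Finset.mem_powersetCard.1 ht).2]

variable {O M L}

/-- Newton: small traces give small symmetric functions. -/
theorem esum_mem (p : ℕ) [hp : Fact p.Prime] (hpm : (p : O) ∈ IsLocalRing.maximalIdeal O) {a : O} {y : L}
    (hy : ∀ k, 0 < k → (∑ σ : L ≃ₐ[M] L, σ (y ^ k)) ∈ line O L a) :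
    ∀ m, 0 < m → m < p → esum M L y m ∈ line O L a := by
  intro m
  induction m using Nat.strong_induction_on with
  | _ m ih =>
    intro hm hmp
    have hN := congrArg (MvPolynomial.aeval (R := ℤ) fun σ : L ≃ₐ[M] L => σ y)
      (MvPolynomial.mul_esymm_eq_sum (L ≃ₐ[M] L) ℤ m)
    have he : ∀ n, MvPolynomial.aeval (R := ℤ) (fun σ : L ≃ₐ[M] L => σ y) (MvPolynomial.esymm (L ≃ₐ[M] L) ℤ n) =
        esum M L y n := fun n => by
      simp [esum, MvPolynomial.esymm, map_sum, map_prod]
    have hp' : ∀ n, MvPolynomial.aeval (R := ℤ) (fun σ : L ≃ₐ[M] L => σ y) (MvPolynomial.psum (L ≃ₐ[M] L) ℤ n) =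
        ∑ σ : L ≃ₐ[M] L, σ (y ^ n) := fun n => by
      simp [MvPolynomial.psum, map_sum, map_pow]
    simp only [map_mul, map_natCast, map_pow, map_neg, map_one, map_sum, he, hp'] at hN
    have hmem : (m : L) * esum M L y m ∈ line O L a := by
      rw [hN]
      have hs : ∀ (k : ℕ) (x : L), x ∈ line O L a → (-1 : L) ^ k * x ∈ line O L a := fun k x hx => by
        rcases neg_one_pow_eq_or L k with h | h <;> rw [h]
        · rwa [one_mul]
        · rw [neg_one_mul]
          exact neg_mem hx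
      refine hs _ _ (sum_mem fun q hq => ?_)
      rw [Finset.mem_filter, Finset.HasAntidiagonal.mem_antidiagonal] at hq
      rw [mul_assoc]
      refine hs _ _ ?_
      have h2 := hy q.2 (by omega)
      simp only [map_pow] at h2
      rcases Nat.eq_zero_or_pos q.1 with h0 | h0
      · rwa [h0, show esum M L y 0 = 1 by simp [esum], one_mul]
      · obtain ⟨c, hc⟩ := (mem_line O L).1 (ih q.1 hq.2 h0 (hq.2.trans hmp))
        rw [← hc, ← Algebra.smul_def]
        exact Submodule.smul_mem _ _ h2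
    have hu : IsUnit (m : O) := by
      by_contra hnu
      haveI : CharP (IsLocalRing.ResidueField O) p := (CharP.charP_iff_prime_eq_zero hp.out).2 (by
        rw [← map_natCast (IsLocalRing.residue O)]
        exact (IsLocalRing.residue_eq_zero_iff _).2 hpm)
      have h0 : (m : IsLocalRing.ResidueField O) = 0 := by
        rw [← map_natCast (IsLocalRing.residue O)]
        exact (IsLocalRing.residue_eq_zero_iff _).2 hnu
      exact absurd (Nat.le_of_dvd hm ((CharP.cast_eq_zero_iff _ p m).1 h0)) (by omega)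
    obtain ⟨w, hw⟩ := hu
    have h3 := Submodule.smul_mem _ (↑w⁻¹ : O) hmem
    rwa [Algebra.smul_def, ← mul_assoc, ← map_natCast (algebraMap O L), ← map_mul, ← hw, Units.inv_mul,
      map_one, one_mul] at h3

section Main

variable [HenselianLocalRing O] [IsAlgClosed (IsLocalRing.ResidueField O)] (p : ℕ) [hp : Fact p.Prime]
  (hL : Module.finrank M L = p) (hpm : (p : O) ∈ IsLocalRing.maximalIdeal O) (hpM : (p : M) ≠ 0)

/-- One step of the approximation by norms. -/
def Step (ϖ : O) : Prop :=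
  ∀ (i : ℕ), 1 ≤ i → ∀ b : O, ∃ (z : L) (c : O), c - b ∈ IsLocalRing.maximalIdeal O ∧
    Algebra.norm M z = algebraMap O M (1 + ϖ ^ i * c)

include hL hpm in
theorem exists_uniformizer_norm {ϖ : O} (hϖ : Irreducible ϖ) :
    (∃ (z : L) (v : Oˣ), Algebra.norm M z = algebraMap O M (v * ϖ)) ∧ Step (M := M) (L := L) ϖ := by
  haveI : Algebra.IsSeparable M L := inferInstance
  haveI : FaithfulSMul O L := (faithfulSMul_iff_algebraMap_injective O L).2 (by
    rw [IsScalarTower.algebraMap_eq O M L]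
    exact (algebraMap M L).injective.comp (IsFractionRing.injective O M))
  let B := integralClosure O L
  haveI : IsDedekindDomain B := IsIntegralClosure.isDedekindDomain O M L B
  haveI : IsLocalRing B := H7Flat.FlatTransfer.isLocalRing_integralClosure O L
  have hnf : ¬ IsField B := fun hfld => IsDiscreteValuationRing.not_isField O
    (isField_of_isIntegral_of_isField (FaithfulSMul.algebraMap_injective O B) hfld)
  have htfae : IsDiscreteValuationRing B ↔ IsDedekindDomain B := (IsDiscreteValuationRing.TFAE B hnf).out 0 2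
  haveI : IsDiscreteValuationRing B := htfae.2 inferInstance
  haveI : IsLocalHom (algebraMap O B) :=
    (algebraMap_isIntegral_iff.mpr (inferInstance : Algebra.IsIntegral O B)).isLocalHom
      (FaithfulSMul.algebraMap_injective O B)
  haveI : Module.Finite O B := IsIntegralClosure.finite O M L B
  obtain ⟨Pu, hPu⟩ := IsDiscreteValuationRing.exists_irreducible B
  let G := L ≃ₐ[M] L
  have hcard : Fintype.card G = p := by
    rw [← Nat.card_eq_fintype_card, IsGalois.card_aut_eq_finrank, hL]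
  -- the conjugates
  let s : G → B ≃+* B := fun σ =>
    { toFun := fun b => ⟨σ (b : L), b.2.map (σ.restrictScalars O)⟩
      invFun := fun b => ⟨σ.symm (b : L), b.2.map (σ.symm.restrictScalars O)⟩
      left_inv := fun b => Subtype.ext (σ.symm_apply_apply _)
      right_inv := fun b => Subtype.ext (σ.apply_symm_apply _)
      map_mul' := fun b c => Subtype.ext (map_mul σ _ _)
      map_add' := fun b c => Subtype.ext (map_add σ _ _) }
  obtain ⟨ν, hν, hνL⟩ := prod_eq_algebraMap O M L (x := (Pu : L)) Pu.2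
  have hass : Associated (algebraMap O B ν) (Pu ^ p) := by
    have h1 : algebraMap O B ν = ∏ σ : G, s σ Pu := Subtype.ext (hνL.trans (Eq.symm (by push_cast; rfl)))
    rw [h1, ← hcard, ← Finset.card_univ, ← Finset.prod_const]
    exact Associated.prod _ _ _ fun σ _ =>
      IsDiscreteValuationRing.associated_of_irreducible B ((MulEquiv.irreducible_iff (s σ).toMulEquiv).2 hPu) hPu
  have hϖB : algebraMap O B ϖ ∈ IsLocalRing.maximalIdeal B := fun h =>
    hϖ.not_isUnit ((isUnit_map_iff (algebraMap O B) ϖ).1 h)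
  have hB0 : algebraMap O B ϖ ≠ 0 := (map_ne_zero_iff _ (FaithfulSMul.algebraMap_injective O B)).2 hϖ.ne_zero
  obtain ⟨e, he⟩ := IsDiscreteValuationRing.associated_pow_irreducible hB0 hPu
  have he0 : e ≠ 0 := fun h => hϖB (associated_one_iff_isUnit.1 (by rwa [h, pow_zero] at he))
  have hν0 : ν ≠ 0 := fun h => hPu.ne_zero (pow_eq_zero_iff hp.out.ne_zero |>.1
    (associated_zero_iff_eq_zero _ |>.1 (by rw [h, map_zero] at hass; exact hass.symm)))
  obtain ⟨f, hf⟩ := IsDiscreteValuationRing.associated_pow_irreducible hν0 hϖ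
  have hef : e * f = p := by
    have h1 : Associated (Pu ^ (e * f)) (Pu ^ p) := by
      rw [pow_mul]
      refine ((he.pow_pow (n := f)).symm.trans ?_).trans hass
      rw [← map_pow]
      exact (hf.map (algebraMap O B)).symm
    exact le_antisymm ((pow_dvd_pow_iff hPu.ne_zero hPu.not_isUnit).1 h1.dvd) ((pow_dvd_pow_iff hPu.ne_zero hPu.not_isUnit).1 h1.symm.dvd)
  have hep : e = p := by
    rcases (Nat.dvd_prime hp.out).1 (Dvd.intro f hef) with h | h
    · exfalso
      haveI : Algebra.IsAlgebraic (IsLocalRing.ResidueField O) (IsLocalRing.ResidueField B) :=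
        (H9Hens.henselian_of_isIntegral (R := O) (T := B)).2
      have hres : Function.Surjective (algebraMap (IsLocalRing.ResidueField O) (IsLocalRing.ResidueField B)) :=
        IsAlgClosed.algebraMap_bijective_of_isIntegral.2
      have hBm : IsLocalRing.maximalIdeal B = Ideal.span {algebraMap O B ϖ} := by
        rw [hPu.maximalIdeal_eq, Ideal.span_singleton_eq_span_singleton]
        rw [h, pow_one] at he
        exact he.symm
      have htop : (1 : Submodule O B) = ⊤ := by
        refine eq_top_iff.2 (Submodule.le_of_le_smul_of_le_jacobson_bot Module.Finite.fg_top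
          (IsLocalRing.maximalIdeal_le_jacobson ⊥) fun b _ => ?_)
        obtain ⟨c, hc⟩ := hres (IsLocalRing.residue B b)
        obtain ⟨c, rfl⟩ := IsLocalRing.residue_surjective c
        rw [IsLocalRing.ResidueField.algebraMap_residue] at hc
        have h2 : b - algebraMap O B c ∈ IsLocalRing.maximalIdeal B :=
          (IsLocalRing.residue_eq_zero_iff _).1 (by rw [map_sub, hc, sub_self])
        rw [hBm, Ideal.mem_span_singleton'] at h2
        obtain ⟨d, hd⟩ := h2
        refine Submodule.mem_sup.2 ⟨algebraMap O B c, Submodule.mem_one.2 ⟨c, rfl⟩, ϖ • d, ?_, ?_⟩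
        · exact Submodule.smul_mem_smul (hϖ.maximalIdeal_eq ▸ Ideal.mem_span_singleton_self ϖ) Submodule.mem_top
        · rw [Algebra.smul_def, mul_comm, hd, add_sub_cancel]
      haveI : IsFractionRing B L := IsIntegralClosure.isFractionRing_of_finite_extension O M L B
      have hsurj : Function.Surjective (algebraMap M L) := fun x => by
        obtain ⟨b, c, -, rfl⟩ := IsFractionRing.div_surjective B x
        obtain ⟨b, rfl⟩ := Submodule.mem_one.1 (htop.ge (Submodule.mem_top : b ∈ ⊤))
        obtain ⟨c, rfl⟩ := Submodule.mem_one.1 (htop.ge (Submodule.mem_top : c ∈ ⊤))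
        exact ⟨algebraMap O M b / algebraMap O M c, by
          rw [map_div₀, ← IsScalarTower.algebraMap_apply O M L, ← IsScalarTower.algebraMap_apply O M L]
          rfl⟩
      have h1 : Module.finrank M L = 1 :=
        (LinearEquiv.ofBijective (Algebra.linearMap M L) ⟨(algebraMap M L).injective, hsurj⟩).finrank_eq.symm.trans
          (Module.finrank_self M)
      exact hp.out.ne_one (hL.symm.trans h1)
    · exact h
  have hf1 : f = 1 := by
    rw [hep] at hef
    exact Nat.eq_of_mul_eq_mul_left hp.out.pos (hef.trans (mul_one p).symm)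
  rw [hep] at he
  rw [hf1, pow_one] at hf
  obtain ⟨v, hv⟩ := hf.symm
  refine ⟨⟨Pu, v, ?_⟩, ?_⟩
  · rw [← hν, mul_comm, hv]
  intro i hi b
  let P : ℕ → L → Prop := fun j x => ∃ c : B, (Pu : L) ^ j * (c : L) = x
  let S : G → L → L := fun σ x => σ x
  -- the choice of the order
  let A : ℕ → Prop := fun j => i + 1 ≤ j ∧ ∀ x, P j x → (∑ σ : G, σ x) ∈ line O L (ϖ ^ (i + 1))
  have hshift : ∀ j x, P j x → P (j + p) (algebraMap O L ϖ * x) := fun j x ⟨c, hc⟩ => by
    obtain ⟨w, hw⟩ := he.symm
    refine ⟨(w : B) * c, ?_⟩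
    have := congrArg (fun t : B => (t : L)) hw
    push_cast at this
    show (Pu : L) ^ (j + p) * (((w : B) * c : B) : L) = algebraMap O L ϖ * x
    rw [← hc, pow_add]
    push_cast
    refine Eq.trans ?_ (congrArg (· * ((Pu : L) ^ j * (c : L))) this)
    ring
  have hdiv : ∀ j x, P (j + p) x → ∃ c, P j c ∧ x = algebraMap O L ϖ * c := fun j x ⟨c, hc⟩ => by
    obtain ⟨w, hw⟩ := he
    refine ⟨(Pu : L) ^ j * ((w : B) * c : B), ⟨_, rfl⟩, ?_⟩
    have := congrArg (fun t : B => (t : L)) hw
    push_cast at this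
    rw [← hc, pow_add, ← this]
    push_cast
    ring
  have hint : ∀ j x, P j x → IsIntegral O x := fun j x ⟨c, hc⟩ => hc ▸ (Pu.2.pow j).mul c.2
  have hAp : ∀ n j, n * p ≤ j → ∀ x, P j x → (∑ σ : G, σ x) ∈ line O L (ϖ ^ n) := by
    intro n
    induction n with
    | zero =>
      intro j _ x hx
      obtain ⟨c, hc⟩ := sum_eq_algebraMap O M L (hint j x hx)
      exact (mem_line O L).2 ⟨c, by rw [pow_zero, one_mul, hc]⟩
    | succ n ih =>
      intro j hj x hx
      obtain ⟨k, rfl⟩ : ∃ k, j = k + p := ⟨j - p, by rw [Nat.succ_mul] at hj; omega⟩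
      obtain ⟨c, hc, rfl⟩ := hdiv k x hx
      obtain ⟨d, hd⟩ := (mem_line O L).1 (ih k (by rw [Nat.succ_mul] at hj; omega) c hc)
      refine (mem_line O L).2 ⟨d, ?_⟩
      rw [pow_succ', mul_assoc, map_mul, hd, Finset.mul_sum]
      refine Finset.sum_congr rfl fun σ _ => ?_
      rw [map_mul, IsScalarTower.algebraMap_apply O M L, AlgEquiv.commutes]
  have hAex : ∃ j, A j := ⟨(i + 1) * p + (i + 1), by omega, hAp _ _ (by omega)⟩
  have hj0 := Nat.find_spec hAex
  obtain ⟨j, hj⟩ : ∃ j, Nat.find hAex = j + 1 := ⟨Nat.find hAex - 1, by have := hj0.1; omega⟩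
  rw [hj] at hj0
  have hij : i ≤ j := by have := hj0.1; omega
  have hnA : ¬ A j := Nat.find_min hAex (by omega)
  have hTr : ∀ x, P j x → (∑ σ : G, σ x) ∈ line O L (ϖ ^ i) := fun x hx => by
    obtain ⟨c, hc⟩ := hshift j x hx
    have h1 : P (j + 1) (algebraMap O L ϖ * x) := ⟨Pu ^ (p - 1) * c, by
      rw [← hc]
      push_cast
      rw [← mul_assoc, ← pow_add, show j + 1 + (p - 1) = j + p by have := hp.out.one_le; omega]⟩
    obtain ⟨d, hd⟩ := (mem_line O L).1 (hj0.2 _ h1)
    refine (mem_line O L).2 ⟨d, mul_left_cancel₀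
      ((map_ne_zero_iff _ (FaithfulSMul.algebraMap_injective O L)).2 hϖ.ne_zero) ?_⟩
    rw [← map_mul, ← mul_assoc, ← pow_succ', hd, Finset.mul_sum]
    refine Finset.sum_congr rfl fun σ _ => ?_
    rw [map_mul, IsScalarTower.algebraMap_apply O M L, AlgEquiv.commutes]
  -- the element
  obtain ⟨y, hyP, hy⟩ : ∃ y, P j y ∧ ((∑ σ : G, σ y) ∉ line O L (ϖ ^ (i + 1)) ∨
      (∏ σ : G, σ y) ∉ line O L (ϖ ^ (i + 1))) := by
    by_cases hji : i + 1 ≤ j
    · by_contra hno
      push Not at hno
      exact hnA ⟨hji, fun x hx => (hno x hx).1⟩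
    · refine ⟨(Pu : L) ^ j, ⟨1, by simp⟩, Or.inr fun hmem => ?_⟩
      obtain ⟨c, hc⟩ := (mem_line O L).1 hmem
      rw [Finset.prod_congr rfl (g := fun σ : G => (σ (Pu : L)) ^ j) (fun σ _ => map_pow σ _ _),
        Finset.prod_pow, ← hνL, ← map_pow] at hc
      have h1 := FaithfulSMul.algebraMap_injective O L hc
      rw [show j = i by omega, ← hv] at h1
      have h2 : ϖ * c = (v : O) ^ i := mul_left_cancel₀ (pow_ne_zero i hϖ.ne_zero) (by
        rw [← mul_assoc, ← pow_succ, h1, mul_pow])
      exact hϖ.not_isUnit (isUnit_of_dvd_unit ⟨c, h2.symm⟩ (v.isUnit.pow i))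
  obtain ⟨cy, hcy⟩ := hyP
  have hpow : ∀ k, 0 < k → P j (y ^ k) := fun k hk => ⟨cy ^ k * Pu ^ (j * (k - 1)), by
    obtain ⟨k, rfl⟩ := Nat.exists_eq_add_of_le' hk
    rw [← hcy, Nat.add_sub_cancel]
    push_cast
    ring⟩
  have hesum : ∀ m ∈ Finset.Icc 1 p, esum M L y m ∈ line O L (ϖ ^ i) := fun m hm => by
    rw [Finset.mem_Icc] at hm
    rcases Nat.lt_or_ge m p with hmp | hmp
    · exact esum_mem p hpm (fun k hk => hTr _ (hpow k hk)) m hm.1 hmp
    · obtain ⟨n, hnM, hn⟩ := prod_eq_algebraMap O M L (x := (cy : L)) cy.2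
      have hm' : m = Fintype.card G := by omega
      have h1 : esum M L y m = ∏ σ : G, σ y := by
        rw [hm', esum, ← Finset.card_univ, Finset.powersetCard_self, Finset.sum_singleton]
      rw [h1, ← hcy, Finset.prod_congr rfl (g := fun σ : G => (σ (Pu : L)) ^ j * σ (cy : L)) (fun σ _ => by
        rw [map_mul, map_pow]), Finset.prod_mul_distrib, Finset.prod_pow, ← hνL, ← hn, ← map_pow, ← map_mul]
      refine (mem_line O L).2 ⟨ϖ ^ (j - i) * (v : O) ^ j * n, ?_⟩
      rw [← hv, mul_pow, ← mul_assoc, ← mul_assoc, ← pow_add, Nat.add_sub_cancel' hij]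
  choose c hc using fun m : Finset.Icc 1 p => (mem_line O L).1 (hesum m.1 m.2)
  let κ := IsLocalRing.ResidueField O
  let Q : κ[X] := ∑ m : Finset.Icc 1 p, C (IsLocalRing.residue O (c m)) * X ^ (m : ℕ) - C (IsLocalRing.residue O b)
  have hcoef : ∀ m : Finset.Icc 1 p, Q.coeff m = IsLocalRing.residue O (c m) := fun m => by
    have hm0 : (m : ℕ) ≠ 0 := by have := (Finset.mem_Icc.1 m.2).1; omega
    rw [coeff_sub, coeff_C_of_ne_zero hm0, sub_zero, finsetSum_coeff]
    rw [Finset.sum_congr rfl fun n _ => coeff_C_mul_X_pow (IsLocalRing.residue O (c n)) (n : ℕ) (m : ℕ)]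
    rw [Finset.sum_eq_single m (fun n _ hn => if_neg fun h => hn (Subtype.ext h.symm))
      (fun h => absurd (Finset.mem_univ m) h), if_pos rfl]
  have hne : ∃ m : Finset.Icc 1 p, IsLocalRing.residue O (c m) ≠ 0 := by
    by_contra hno
    push Not at hno
    have hin : ∀ m ∈ Finset.Icc 1 p, esum M L y m ∈ line O L (ϖ ^ (i + 1)) := fun m hm => by
      obtain ⟨d, hd⟩ := Ideal.mem_span_singleton'.1
        (hϖ.maximalIdeal_eq ▸ (IsLocalRing.residue_eq_zero_iff _).1 (hno ⟨m, hm⟩))
      exact (mem_line O L).2 ⟨d, by rw [← hc ⟨m, hm⟩, pow_succ, mul_assoc, mul_comm ϖ, hd]⟩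
    rcases hy with h | h
    · refine h ?_
      have := hin 1 (Finset.mem_Icc.2 ⟨le_rfl, hp.out.one_le⟩)
      simpa [esum, Finset.powersetCard_one, Finset.sum_map] using this
    · refine h ?_
      have := hin p (Finset.mem_Icc.2 ⟨hp.out.one_le, le_rfl⟩)
      rwa [esum, ← hcard, ← Finset.card_univ, Finset.powersetCard_self, Finset.sum_singleton] at this
  obtain ⟨m₀, hm₀⟩ := hne
  have hQd : Q.degree ≠ 0 := fun h => hm₀ (by
    rw [← hcoef]
    refine coeff_eq_zero_of_degree_lt (h.trans_lt ?_)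
    exact_mod_cast Nat.pos_of_ne_zero (by have := (Finset.mem_Icc.1 m₀.2).1; omega))
  obtain ⟨a, ha⟩ := IsAlgClosed.exists_root Q hQd
  obtain ⟨a, rfl⟩ := IsLocalRing.residue_surjective a
  refine ⟨1 + algebraMap O L a * y, ∑ m : Finset.Icc 1 p, c m * a ^ (m : ℕ), ?_, ?_⟩
  · rw [← IsLocalRing.residue_eq_zero_iff, map_sub, map_sum, ← ha.eq_zero]
    simp only [Q, eval_sub, eval_finsetSum, eval_mul, eval_pow, eval_X, map_mul, map_pow]
    erw [eval_C]
    refine congrArg (· - _) (Finset.sum_congr rfl fun m _ => ?_)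
    erw [eval_C]
  · apply (algebraMap M L).injective
    rw [norm_one_add, hcard, ← IsScalarTower.algebraMap_apply, map_add, map_one, Finset.mul_sum, map_sum,
      Finset.sum_range_succ', add_comm]
    congr 1
    · simp [esum]
    · rw [← Finset.sum_attach]
      refine Finset.sum_bij' (fun n _ => (⟨n + 1, Finset.mem_Icc.2 ⟨by omega, Finset.mem_range.1 n.2⟩⟩ : Finset.Icc 1 p))
        (fun m _ => ⟨(m : ℕ) - 1, Finset.mem_range.2 (by have := Finset.mem_Icc.1 m.2; omega)⟩)
        (fun _ _ => Finset.mem_univ _) (fun _ _ => Finset.mem_attach _ _) (fun n _ => Subtype.ext (by simp))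
        (fun m _ => Subtype.ext (by have := (Finset.mem_Icc.1 m.2).1; simp; omega)) fun n _ => ?_
      rw [← hc ⟨n + 1, Finset.mem_Icc.2 ⟨by omega, Finset.mem_range.1 n.2⟩⟩]
      simp only [map_mul, map_pow]
      ring

include hL hpm hpM in
/-- **Norms are surjective.** -/
theorem exists_norm_eq (x : M) (hx : x ≠ 0) : ∃ y : L, Algebra.norm M y = x := by
  obtain ⟨ϖ, hϖ⟩ := IsDiscreteValuationRing.exists_irreducible O
  obtain ⟨⟨z, v, hz⟩, hstep⟩ := exists_uniformizer_norm (M := M) (L := L) p hL hpm hϖ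
  have hp0 : (p : O) ≠ 0 := fun h => hpM (by rw [← map_natCast (algebraMap O M), h, map_zero])
  obtain ⟨a, ha⟩ := IsDiscreteValuationRing.associated_pow_irreducible hp0 hϖ
  obtain ⟨w, hw⟩ := ha
  let N : Set M := Set.range fun y : L => Algebra.norm M y
  have hmul : ∀ s t : M, s ∈ N → t ∈ N → s * t ∈ N := fun s t ⟨y, hy⟩ ⟨y', hy'⟩ =>
    ⟨y * y', by show Algebra.norm M (y * y') = _; rw [map_mul, ← hy, ← hy']⟩
  have hpow : ∀ s : M, s ^ p ∈ N := fun s =>
    ⟨algebraMap M L s, by show Algebra.norm M (algebraMap M L s) = _; rw [Algebra.norm_algebraMap, hL]⟩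
  have hone : ∀ k n : ℕ, 1 ≤ n → 2 * a + 1 ≤ n + k → ∀ c : O, algebraMap O M (1 + ϖ ^ n * c) ∈ N := by
    intro k
    induction k with
    | zero =>
      intro n _ hn c
      obtain ⟨m, rfl⟩ := Nat.exists_eq_add_of_le (show 2 * a + 1 ≤ n by omega)
      obtain ⟨x, hx⟩ := exists_pow_eq_one_add O p hpm (ε := (w : O) ^ 2 * (ϖ * (ϖ ^ m * c)))
        (Ideal.mul_mem_left _ _ (Ideal.mul_mem_right _ _ (hϖ.maximalIdeal_eq ▸ Ideal.mem_span_singleton_self ϖ)))
      convert hpow (algebraMap O M x) using 1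
      rw [← map_pow, hx]
      refine congrArg (algebraMap O M) ?_
      linear_combination (-(ϖ ^ (m + 1) * c) * ((p : O) * w + ϖ ^ a)) * hw
    | succ k ih =>
      intro n hn hnk c
      obtain ⟨y, c', hcc, hy⟩ := hstep n hn c
      have hu : IsUnit (1 + ϖ ^ n * c') := by
        rw [← IsLocalRing.residue_ne_zero_iff_isUnit, map_add, map_one, map_mul, map_pow,
          (IsLocalRing.residue_eq_zero_iff ϖ).2 (hϖ.maximalIdeal_eq ▸ Ideal.mem_span_singleton_self ϖ),
          zero_pow (by omega), zero_mul, add_zero]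
        exact one_ne_zero
      obtain ⟨u, hu⟩ := hu
      obtain ⟨d, hd⟩ := Ideal.mem_span_singleton'.1 (hϖ.maximalIdeal_eq ▸ hcc)
      have heq : 1 + ϖ ^ n * c = (1 + ϖ ^ n * c') * (1 + ϖ ^ (n + 1) * (-(d * ↑u⁻¹))) := by
        linear_combination (ϖ ^ n) * hd + (ϖ ^ (n + 1) * d) * u.mul_inv - (ϖ ^ (n + 1) * d * ↑u⁻¹) * hu
      rw [heq, map_mul]
      exact hmul _ _ ⟨y, hy⟩ (ih (n + 1) (by omega) (by omega) _)
  have hunit : ∀ u : Oˣ, algebraMap O M u ∈ N := fun u => by
    obtain ⟨r, hr⟩ := IsAlgClosed.exists_pow_nat_eq (IsLocalRing.residue O (u : O)) hp.out.pos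
    obtain ⟨r, rfl⟩ := IsLocalRing.residue_surjective r
    have hru : IsUnit r := by
      rw [← IsLocalRing.residue_ne_zero_iff_isUnit]
      exact fun h => (IsLocalRing.residue_ne_zero_iff_isUnit _).2 u.isUnit (by rw [← hr, h, zero_pow hp.out.ne_zero])
    obtain ⟨r, rfl⟩ := hru
    obtain ⟨d, hd⟩ := Ideal.mem_span_singleton'.1 (hϖ.maximalIdeal_eq ▸ (IsLocalRing.residue_eq_zero_iff
      ((u : O) * (((r ^ p)⁻¹ : Oˣ) : O) - 1)).1 (by
        rw [map_sub, map_mul, map_one, ← hr, ← map_pow, ← Units.val_pow_eq_pow_val, ← map_mul, Units.mul_inv,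
          map_one, sub_self]))
    have heq : (u : O) = (r : O) ^ p * (1 + ϖ ^ 1 * d) := by
      rw [pow_one, mul_comm ϖ, hd, add_sub_cancel, mul_left_comm, ← Units.val_pow_eq_pow_val, Units.mul_inv,
        mul_one]
    rw [heq, map_mul, map_pow]
    exact hmul _ _ (hpow _) (hone (2 * a) 1 le_rfl (by omega) d)
  have hinv : ∀ s ∈ N, s⁻¹ ∈ N := fun s ⟨y, hy⟩ =>
    ⟨y⁻¹, by show Algebra.norm M y⁻¹ = _; rw [Algebra.norm_inv, ← hy]⟩
  have hpos : ∀ r : O, r ≠ 0 → algebraMap O M r ∈ N := fun r hr => by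
    obtain ⟨n, u, rfl⟩ := IsDiscreteValuationRing.eq_unit_mul_pow_irreducible hr hϖ
    rw [show (u : O) * ϖ ^ n = ((u * v⁻¹ ^ n : Oˣ) : O) * ((v : O) * ϖ) ^ n by
      rw [mul_pow, Units.val_mul, Units.val_pow_eq_pow_val, mul_assoc, ← mul_assoc ((↑v⁻¹ : O) ^ n), ← mul_pow,
        Units.inv_mul, one_pow, one_mul], map_mul, map_pow, ← hz]
    exact hmul _ _ (hunit _) ⟨z ^ n, map_pow _ _ _⟩
  obtain ⟨r, s, hs, rfl⟩ := IsFractionRing.div_surjective O x
  rw [div_eq_mul_inv]
  exact hmul _ _ (hpos r fun h => hx (by rw [h, map_zero, zero_div])) (hinv _ (hpos s (nonZeroDivisors.ne_zero hs)))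

end Main

end Groth.Agent.H05EGA4.EtCl.Mixed
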