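import Groth.Agent.H05EGA4.EtCl.Lower.DvrLower
import Groth.Agent.H05EGA4.EtCl.CdpCharP
import Groth.Agent.H9Et.ArtinSchreier
import Groth.Agent.H9Et.GaAcyclic

/-!
# The residue field of characteristic `p` of a field with `cd_p ≤ 1`
-/

set_option autoImplicit false
set_option linter.style.haveILetI false
set_option linter.unusedSectionVars false
set_option linter.overlappingInstances false
set_option backward.isDefEq.respectTransparency false
set_option backward.isDefEq.respectTransparency.types false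

universe u

open CategoryTheory CategoryTheory.Limits AlgebraicGeometry Opposite Abelian Polynomial
open scoped Classical

namespace Groth.Agent.H05EGA4.EtCl.Mixed

open Groth.Agent.H18Et.ConstSheaf (rest unitTop homConst homConst_rest constHom_ext)
open Groth.Agent.H05EGA4.EtCl.Lower (fromZ)
open scoped Groth.Agent.H18Et

/-- Artin–Schreier: fields closed under `x ↦ x ^ p - x` have no classes of degree one. -/
theorem subsingleton_H1_of_AS (L : Type u) [Field L] (p : ℕ) [Fact p.Prime] [CharP L p]
    (h : ∀ a : L, ∃ x : L, x ^ p - x = a) :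
    Subsingleton (EtCoh.H (Spec (CommRingCat.of L)) (EtCoh.const (Spec (CommRingCat.of L)) (ZMod p)) 1) := by
  let S : Scheme.{u} := Spec (CommRingCat.of L)
  let eG := (Scheme.ΓSpecIso (CommRingCat.of L)).commRingCatIsoToRingEquiv
  haveI : CharP Γ(S, ⊤) p := charP_of_injective_ringHom eG.symm.injective p
  refine subsingleton_of_forall_eq 0 fun x => ?_
  obtain ⟨y, hy⟩ := Ext.covariant_sequence_exact₁ _ (H9Et.AS.shortExact_seq S p) x
    ((H9Et.subsingleton_H_Ga 0).elim _ _) (zero_add 1)
  obtain ⟨φ, rfl⟩ := (Ext.mk₀_bijective _ _).surjective y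
  let one : ToType ((EtCoh.const S ℤ).obj.obj (op (EtCoh.top S))) :=
    unitTop (AddCommGrpCat.of (ULift.{u + 1} ℤ)) (ULift.up 1)
  let a := φ.hom.app (op (EtCoh.top S)) one
  obtain ⟨b, hb⟩ := h (eG (H9Et.AS.val (S := S) (U := EtCoh.top S) a))
  let s : (EtCoh.Ga S).obj.obj (op (EtCoh.top S)) := H9Et.AS.sec (U := EtCoh.top S) (eG.symm b)
  have hs : (H9Et.AS.wp S p).hom.app (op (EtCoh.top S)) s = a := by
    refine (H9Et.AS.wp_app _ _ _).trans (ULift.ext _ _ ?_)
    show eG.symm b ^ p - eG.symm b = H9Et.AS.val (S := S) (U := EtCoh.top S) a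
    rw [← map_pow, ← map_sub, hb, RingEquiv.symm_apply_apply]
  let ψ : EtCoh.const S ℤ ⟶ EtCoh.Ga S :=
    homConst (EtCoh.Ga S) (fromZ (A := (EtCoh.Ga S).obj.obj (op (EtCoh.top S))) s)
  have hφ : φ = ψ ≫ H9Et.AS.wp S p := by
    refine constHom_ext fun U m => ?_
    refine Eq.trans ?_ (ConcreteCategory.comp_apply _ _ _).symm
    refine Eq.trans ?_ (congrArg ((H9Et.AS.wp S p).hom.app (op U)) (homConst_rest _ _ U m)).symm
    refine Eq.trans ?_ (NatTrans.naturality_apply (H9Et.AS.wp S p).hom ((EtCore.topIsTerminal S).from U).op _).symm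
    refine (NatTrans.naturality_apply φ.hom ((EtCore.topIsTerminal S).from U).op _).trans ?_
    refine congrArg (rest (EtCoh.Ga S) U) ?_
    have hm : unitTop (X := S) (AddCommGrpCat.of (ULift.{u + 1} ℤ)) m = m.down • one := by
      refine (congrArg (unitTop (X := S) (AddCommGrpCat.of (ULift.{u + 1} ℤ))) (ULift.ext _ _ ?_ :
        m = m.down • (ULift.up 1 : ULift.{u + 1} ℤ))).trans (map_zsmul _ _ _)
      show m.down = m.down • (1 : ℤ)
      rw [smul_eq_mul, mul_one]
    refine (congrArg (φ.hom.app (op (EtCoh.top S))) hm).trans (Eq.trans ?_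
      (map_zsmul ((H9Et.AS.wp S p).hom.app (op (EtCoh.top S))).hom m.down s).symm)
    refine (map_zsmul (φ.hom.app (op (EtCoh.top S))).hom m.down one).trans ?_
    exact congrArg (m.down • ·) hs.symm
  rw [← hy, hφ, ← Ext.mk₀_comp_mk₀, Ext.comp_assoc_of_second_deg_zero]
  exact (congrArg (fun t => (Ext.mk₀ ψ).comp t (zero_add 1)) (H9Et.AS.shortExact_seq S p).comp_extClass).trans
    (Ext.comp_zero _ _ _ _ _)

/-- Fields with `cd_p ≤ 1`, `p` invertible, have surjective norms. -/
theorem normSurj_of_cd (M : Type u) [Field M] (p : ℕ) [hp : Fact p.Prime] (hpM : (p : M) ≠ 0)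
    (h : Dix.CohDimLEAt (Spec (CommRingCat.of M)) p 1) : S7732.NormSurj M p := by
  refine S7732.normSurj_of_brauer M p fun K _ _ _ x ⟨m, hm⟩ => ?_
  have hpK : (p : K) ≠ 0 := fun h0 => hpM ((algebraMap M K).injective (by rw [map_natCast, map_zero]; exact h0))
  have hμ : Dix.IsPrimaryTorsion p (EtCoh.mu (Spec (CommRingCat.of K)) p) := fun U s y => ⟨U, 𝟙 U, ⟨y, rfl⟩, 1, by
    rw [pow_one, op_id, CategoryTheory.Functor.map_id]
    exact S7732.killedBy_mu _ p U s⟩
  haveI := Lower.cohDimLEAt_algebraic M K h _ hμ 2 (by norm_num)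
  have hkey : ∀ y : EtCoh.H (Spec (CommRingCat.of K)) (EtCoh.Gm (Spec (CommRingCat.of K))) 2, p • y = 0 → y = 0 :=
    fun y hy => by
      obtain ⟨η, hη⟩ : y ∈ Set.range ⇑((EtCoh.HF (Spec (CommRingCat.of K)) 2).map (EtCoh.muι _ p)) := by
        rw [S3244.result _ p hp.out.pos (S7732.invertibleOn K p hpK) 2 (by norm_num)]
        exact hy
      rw [← hη, Subsingleton.elim (α := EtCoh.H (Spec (CommRingCat.of K)) (EtCoh.mu (Spec (CommRingCat.of K)) p) 2) η 0]
      exact map_zero ((EtCoh.HF (Spec (CommRingCat.of K)) 2).map (EtCoh.muι _ p)).hom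
  suffices ∀ (j : ℕ) (y : EtCoh.H (Spec (CommRingCat.of K)) (EtCoh.Gm (Spec (CommRingCat.of K))) 2),
      p ^ j • y = 0 → y = 0 from this m x hm
  intro j
  induction j with
  | zero => exact fun y hy => by simpa using hy
  | succ j ih => exact fun y hy => hkey y (ih _ (by rw [smul_smul, ← pow_succ]; exact hy))

/-- Artin–Schreier polynomials without roots are irreducible. -/
theorem irreducible_AS (κ : Type u) [Field κ] (p : ℕ) [hp : Fact p.Prime] [CharP κ p] (a : κ)
    (h : ∀ x : κ, x ^ p - x ≠ a) : Irreducible (X ^ p - X - C a : κ[X]) := by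
  have hp1 := hp.out.one_lt
  have hP : (X ^ p - X - C a : κ[X]) = X ^ p + (-(X + C a)) := by ring
  have hm : (X ^ p - X - C a : κ[X]).Monic := by
    rw [hP]
    exact monic_X_pow_add (by rw [degree_neg, degree_X_add_C]; exact_mod_cast hp1)
  have hdeg : (X ^ p - X - C a : κ[X]).natDegree = p := by
    rw [hP, natDegree_add_eq_left_of_natDegree_lt (by rw [natDegree_X_pow, natDegree_neg, natDegree_X_add_C]; exact hp1),
      natDegree_X_pow]
  rw [hm.irreducible_iff_natDegree']
  refine ⟨fun h1 => by rw [h1, natDegree_one] at hdeg; exact hp.out.ne_zero hdeg.symm, fun g q hg hq hgq hmem => ?_⟩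
  rw [hdeg, Finset.mem_Ioc] at hmem
  set d := q.natDegree with hd
  let Ω := AlgebraicClosure κ
  haveI : CharP Ω p := charP_of_injective_ringHom (algebraMap κ Ω).injective p
  obtain ⟨r, hr⟩ := IsAlgClosed.exists_root ((X ^ p - X - C a : κ[X]).map (algebraMap κ Ω)) (by
    rw [degree_map, degree_eq_natDegree hm.ne_zero, hdeg]
    exact_mod_cast hp.out.ne_zero)
  have hr' : r ^ p - r = algebraMap κ Ω a := by simpa [sub_eq_zero] using hr
  let S : Subfield Ω := (ZMod.castHom (dvd_refl p) Ω).fieldRange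
  have hroots : ∀ x ∈ (q.map (algebraMap κ Ω)).roots, x - r ∈ S := fun x hx => by
    have h1 : IsRoot ((X ^ p - X - C a : κ[X]).map (algebraMap κ Ω)) x := by
      rw [← hgq, Polynomial.map_mul, IsRoot, eval_mul, (isRoot_of_mem_roots hx).eq_zero, mul_zero]
    have h2 : x ^ p - x = algebraMap κ Ω a := by simpa [sub_eq_zero] using h1
    have h3 : (x - r) ^ p = x - r := by
      rw [sub_pow_char]
      linear_combination h2 - hr'
    have h4 : IsRoot ((X ^ p - X : (ZMod p)[X]).map (ZMod.castHom (dvd_refl p) Ω)) (x - r) := by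
      simp [h3]
    have hsp : (X ^ p - X : (ZMod p)[X]).Splits := by
      have := (FiniteField.isSplittingField_sub (ZMod p) (ZMod p)).splits
      simpa using this
    have hne : (X ^ p - X : (ZMod p)[X]).map (ZMod.castHom (dvd_refl p) Ω) ≠ 0 :=
      map_ne_zero (FiniteField.X_pow_card_sub_X_ne_zero _ hp1)
    have h5 := (mem_roots hne).2 h4
    rw [hsp.roots_map, Multiset.mem_map] at h5
    obtain ⟨i, -, hi⟩ := h5
    exact ⟨i, hi⟩
  have hspl : (q.map (algebraMap κ Ω)).Splits := IsAlgClosed.splits _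
  have hsum : (q.map (algebraMap κ Ω)).nextCoeff = -(q.map (algebraMap κ Ω)).roots.sum :=
    hspl.nextCoeff_eq_neg_sum_roots_of_monic (hq.map _)
  have hcard : (q.map (algebraMap κ Ω)).roots.card = d := by
    rw [← hspl.natDegree_eq_card_roots, natDegree_map]
  have hrs : (q.map (algebraMap κ Ω)).roots.sum - (d : Ω) * r ∈ S := by
    have key : ∀ m : Multiset Ω, (∀ x ∈ m, x - r ∈ S) → m.sum - (m.card : Ω) * r ∈ S := fun m => by
      induction m using Multiset.induction_on with
      | empty => simp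
      | cons x m ih =>
        intro hm
        have h8 := add_mem (hm x (Multiset.mem_cons_self _ _)) (ih fun y hy => hm y (Multiset.mem_cons_of_mem hy))
        rw [Multiset.sum_cons, Multiset.card_cons, Nat.cast_succ]
        convert h8 using 1
        ring
    exact hcard ▸ key _ hroots
  obtain ⟨i, hi⟩ := hrs
  rw [nextCoeff_map (algebraMap κ Ω).injective] at hsum
  have hdp : (d : κ) ≠ 0 := fun h0 => by
    have := Nat.le_of_dvd (by omega) ((CharP.cast_eq_zero_iff κ p d).1 h0)
    omega
  let t : κ := (-q.nextCoeff - ZMod.castHom (dvd_refl p) κ i) / (d : κ)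
  have ht : algebraMap κ Ω t = r := by
    have hdp' : (d : Ω) ≠ 0 := fun h0 => hdp ((algebraMap κ Ω).injective (by rw [map_natCast, h0, map_zero]))
    have hcast : algebraMap κ Ω (ZMod.castHom (dvd_refl p) κ i) = ZMod.castHom (dvd_refl p) Ω i :=
      RingHom.congr_fun (Subsingleton.elim ((algebraMap κ Ω).comp (ZMod.castHom (dvd_refl p) κ)) _) i
    simp only [t, map_div₀, map_sub, map_neg, map_natCast, hcast, hsum, hi]
    rw [div_eq_iff hdp']
    ring
  exact h t ((algebraMap κ Ω).injective (by rw [map_sub, map_pow, ht, hr']))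

/-- A field with `cd_p ≤ 1` and residue field of characteristic `p`: the residue field is Artin–Schreier closed. -/
theorem exists_AS_root (H : Type u) [CommRing H] [IsDomain H] [IsDiscreteValuationRing H] [HenselianLocalRing H]
    (p : ℕ) [hp : Fact p.Prime] [CharP (IsLocalRing.ResidueField H) p] (hpH : (p : H) ≠ 0)
    (h : Dix.CohDimLEAt (Spec (CommRingCat.of (FractionRing H))) p 1) (a : IsLocalRing.ResidueField H) :
    ∃ x, x ^ p - x = a := by
  by_contra hno
  push Not at hno
  have hp1 := hp.out.one_lt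
  obtain ⟨a, rfl⟩ := IsLocalRing.residue_surjective a
  let κ := IsLocalRing.ResidueField H
  let M := FractionRing H
  let f : H[X] := X ^ p - X - C a
  have hP : f = X ^ p + (-(X + C a)) := by simp only [f]; ring
  have hf : f.Monic := by
    rw [hP]
    exact monic_X_pow_add (by rw [degree_neg, degree_X_add_C]; exact_mod_cast hp1)
  have hfd : f.natDegree = p := by
    rw [hP, natDegree_add_eq_left_of_natDegree_lt (by rw [natDegree_X_pow, natDegree_neg, natDegree_X_add_C]; exact hp1),
      natDegree_X_pow]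
  have hfκ : f.map (IsLocalRing.residue H) = X ^ p - X - C (IsLocalRing.residue H a) := by
    simp [f]
  have hirr : Irreducible (f.map (IsLocalRing.residue H)) := hfκ ▸ irreducible_AS κ p _ hno
  have hirrM : Irreducible (f.map (algebraMap H M)) :=
    hf.irreducible_iff_irreducible_map_fraction_map.1 (hf.irreducible_of_irreducible_map _ _ hirr)
  haveI := Fact.mk hirrM
  let L := AdjoinRoot (f.map (algebraMap H M))
  have hfM0 : f.map (algebraMap H M) ≠ 0 := (hf.map _).ne_zero
  haveI : FiniteDimensional M L := (AdjoinRoot.powerBasis hfM0).finite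
  have hL : Module.finrank M L = p := by
    rw [(AdjoinRoot.powerBasis hfM0).finrank, AdjoinRoot.powerBasis_dim, natDegree_map_eq_of_injective
      (IsFractionRing.injective H M), hfd]
  let r : L := AdjoinRoot.root (f.map (algebraMap H M))
  haveI : IsScalarTower H M L := inferInstance
  have hr : aeval r f = 0 := by
    rw [← aeval_map_algebraMap M]
    exact (AdjoinRoot.aeval_eq _).trans AdjoinRoot.mk_self
  haveI : FaithfulSMul H L := (faithfulSMul_iff_algebraMap_injective H L).2 (by
    rw [IsScalarTower.algebraMap_eq H M L]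
    exact (algebraMap M L).injective.comp (IsFractionRing.injective H M))
  let B := integralClosure H L
  haveI : IsLocalRing B := H7Flat.FlatTransfer.isLocalRing_integralClosure H L
  haveI : IsLocalHom (algebraMap H B) :=
    (algebraMap_isIntegral_iff.mpr (inferInstance : Algebra.IsIntegral H B)).isLocalHom
      (FaithfulSMul.algebraMap_injective H B)
  haveI := (H9Hens.henselian_of_isIntegral (R := H) (T := B)).1
  let rB : B := ⟨r, f, hf, by rwa [← aeval_def]⟩
  have hrB : aeval rB f = 0 := Subtype.ext ((aeval_algebraMap_apply L rB f).symm.trans hr)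
  haveI : CharP (IsLocalRing.ResidueField B) p :=
    charP_of_injective_ringHom (algebraMap κ (IsLocalRing.ResidueField B)).injective p
  let ρ := IsLocalRing.residue B
  -- all roots
  have hroot : ∀ i : ZMod p, ∃ x : B, aeval x f = 0 ∧ ρ x = ρ rB + ZMod.castHom (dvd_refl p) _ i := fun i => by
    obtain ⟨c, hc⟩ := IsLocalRing.residue_surjective (ρ rB + ZMod.castHom (dvd_refl p) _ i)
    have hev : ∀ y : B, ρ ((f.map (algebraMap H B)).eval y) = ρ y ^ p - ρ y - ρ (algebraMap H B a) := fun y => by
      simp [f]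
    have h0 : (f.map (algebraMap H B)).eval c ∈ IsLocalRing.maximalIdeal B := by
      rw [← IsLocalRing.residue_eq_zero_iff]
      show ρ _ = 0
      have h1 := hev rB
      rw [eval_map_algebraMap, hrB, map_zero] at h1
      rw [hev, show ρ c = ρ rB + ZMod.castHom (dvd_refl p) _ i from hc, add_pow_char, ← map_pow (ZMod.castHom (dvd_refl p) _),
        ZMod.pow_card, h1]
      ring
    have h1 : IsUnit ((f.map (algebraMap H B)).derivative.eval c) := by
      rw [← IsLocalRing.residue_ne_zero_iff_isUnit]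
      show ρ _ ≠ 0
      simp [f, derivative_X_pow, CharP.cast_eq_zero]
    obtain ⟨x, hx, hxc⟩ := HenselianLocalRing.is_henselian _ (hf.map _) c h0 h1
    refine ⟨x, (eval_map_algebraMap f x).symm.trans hx, ?_⟩
    rw [← hc, ← sub_eq_zero, ← map_sub]
    exact (IsLocalRing.residue_eq_zero_iff _).2 hxc
  choose x hx hxρ using hroot
  have hxinj : Function.Injective fun i => (x i : L) := fun i j hij => by
    have h1 := congrArg ρ (Subtype.ext hij : x i = x j)
    rw [hxρ, hxρ] at h1
    exact (ZMod.castHom (dvd_refl p) (IsLocalRing.ResidueField B)).injective (add_left_cancel h1)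
  let g : L[X] := (f.map (algebraMap H M)).map (algebraMap M L)
  have hg0 : g ≠ 0 := map_ne_zero hfM0
  have hgd : g.natDegree = p := by
    rw [natDegree_map, natDegree_map_eq_of_injective (IsFractionRing.injective H M), hfd]
  have hle : Finset.univ.map ⟨_, hxinj⟩ ⊆ g.roots.toFinset := fun y hy => by
    obtain ⟨i, -, rfl⟩ := Finset.mem_map.1 hy
    rw [Multiset.mem_toFinset, mem_roots hg0]
    show g.eval (algebraMap B L (x i)) = 0
    rw [eval_map_algebraMap, aeval_map_algebraMap, aeval_algebraMap_apply, hx, map_zero]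
  have hp2 : p ≤ g.roots.toFinset.card := by
    refine le_trans (le_of_eq ?_) (Finset.card_le_card hle)
    rw [Finset.card_map, Finset.card_univ, ZMod.card]
  have hcard : g.roots.card = p := le_antisymm ((card_roots' g).trans hgd.le) (hp2.trans (Multiset.toFinset_card_le _))
  have hspl : g.Splits := splits_iff_card_roots.2 (hcard.trans hgd.symm)
  have hnd : g.roots.Nodup := Multiset.toFinset_card_eq_card_iff_nodup.1
    (le_antisymm (Multiset.toFinset_card_le _) (hcard.le.trans hp2))
  have hsep : (f.map (algebraMap H M)).Separable := by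
    rw [← separable_map (algebraMap M L)]
    exact (nodup_roots_iff_of_splits hg0 hspl).1 hnd
  haveI : IsGalois M L := by
    haveI : Polynomial.IsSplittingField M L (f.map (algebraMap H M)) := by
      refine ⟨hspl, eq_top_iff.2 ?_⟩
      rw [← AdjoinRoot.adjoinRoot_eq_top]
      refine Algebra.adjoin_mono (Set.singleton_subset_iff.2 ((mem_rootSet').2 ⟨hg0, ?_⟩))
      rw [aeval_map_algebraMap]
      exact hr
    exact IsGalois.of_separable_splitting_field hsep
  obtain ⟨ϖ, hϖ⟩ := IsDiscreteValuationRing.exists_irreducible H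
  have hϖ0 : algebraMap H M ϖ ≠ 0 := (map_ne_zero_iff _ (IsFractionRing.injective H M)).2 hϖ.ne_zero
  obtain ⟨y, hy⟩ := normSurj_of_cd M p (fun h0 => hpH (IsFractionRing.injective H M
    (by rw [map_natCast, h0, map_zero]))) h M L hL (algebraMap H M ϖ) hϖ0
  obtain ⟨q, hqy⟩ := AdjoinRoot.mk_surjective y
  let q' := q %ₘ f.map (algebraMap H M)
  have hq' : aeval r q' = y := by
    show aeval r (q %ₘ _) = y
    rw [modByMonic_eq_sub_mul_div, map_sub, map_mul, AdjoinRoot.aeval_eq, AdjoinRoot.aeval_eq, AdjoinRoot.mk_self,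
      zero_mul, sub_zero, hqy]
  have hq'd : q'.degree < (p : ℕ) := by
    refine lt_of_lt_of_eq (degree_modByMonic_lt _ (hf.map _)) ?_
    rw [degree_eq_natDegree hfM0, natDegree_map_eq_of_injective (IsFractionRing.injective H M), hfd]
  obtain ⟨⟨c, hcM⟩, hc⟩ := IsLocalization.integerNormalization_map_to_map (nonZeroDivisors H) q'
  set q₁ := IsLocalization.integerNormalization (nonZeroDivisors H) q' with hq₁
  have hc0 : c ≠ 0 := nonZeroDivisors.ne_zero hcM
  have hq1y : algebraMap H L c * y = aeval r q₁ := by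
    have h2 := congrArg (aeval r) hc
    rw [aeval_map_algebraMap, ← algebraMap_smul M c q', map_smul, hq', Algebra.smul_def, ← IsScalarTower.algebraMap_apply] at h2
    rw [h2]
  have hq1d : q₁.degree < (p : ℕ) := by
    rw [← degree_map_eq_of_injective (IsFractionRing.injective H M) q₁, hc]
    exact (degree_smul_le _ _).trans_lt hq'd
  have hy0 : y ≠ 0 := fun h0 => hϖ0 (by rw [← hy, h0, Algebra.norm_zero])
  have hq10 : q₁ ≠ 0 := fun h0 => by
    rw [h0, map_zero, mul_eq_zero, map_eq_zero_iff _ (FaithfulSMul.algebraMap_injective H L)] at hq1y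
    exact hq1y.elim hc0 hy0
  obtain ⟨g₀, hg₀, hg₀'⟩ := (FiniteMultiplicity.of_not_isUnit
    (fun h0 => hϖ.not_isUnit (isUnit_C.1 h0)) hq10).exists_eq_pow_mul_and_not_dvd (a := C ϖ)
  set n := multiplicity (C ϖ) q₁ with hn
  have hred : g₀.map (IsLocalRing.residue H) ≠ 0 := fun h0 => hg₀' (C_dvd_iff_dvd_coeff _ _ |>.2 fun k => by
    have := congrArg (fun P => P.coeff k) h0
    simp only [coeff_map, coeff_zero] at this
    rw [← Ideal.mem_span_singleton, ← hϖ.maximalIdeal_eq]
    exact (IsLocalRing.residue_eq_zero_iff _).1 this)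
  have hg0d : g₀.degree < (p : ℕ) := by
    refine lt_of_le_of_lt ?_ hq1d
    rw [hg₀, degree_mul, ← C_pow, degree_C (pow_ne_zero _ hϖ.ne_zero), zero_add]
  have hu : IsUnit (aeval rB g₀) := by
    rw [← IsLocalRing.residue_ne_zero_iff_isUnit]
    intro h0
    have h1 : aeval (ρ rB) (g₀.map (IsLocalRing.residue H)) = 0 := by
      rw [← h0, aeval_def, eval₂_map, aeval_def, hom_eval₂]
      rfl
    have h2 : minpoly κ (ρ rB) = f.map (IsLocalRing.residue H) := by
      refine (minpoly.eq_of_irreducible_of_monic hirr ?_ (hf.map _)).symm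
      rw [← map_zero ρ, ← hrB, aeval_def, eval₂_map, aeval_def, hom_eval₂]
      rfl
    have h3 := degree_le_of_dvd (minpoly.dvd κ (ρ rB) h1) hred
    rw [h2, degree_eq_natDegree (hf.map _).ne_zero, hf.natDegree_map, hfd] at h3
    exact absurd (h3.trans degree_map_le) (not_le.2 hg0d)
  obtain ⟨w, hw⟩ := hu
  have hyw : algebraMap H L c * y = algebraMap H L (ϖ ^ n) * ((w : B) : L) := by
    rw [hq1y, hg₀, map_mul, map_pow, aeval_C, ← map_pow, hw]
    exact congrArg _ (aeval_algebraMap_apply L rB g₀)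
  have hN : ∀ b : H, Algebra.norm M (algebraMap H L b) = algebraMap H M b ^ p := fun b => by
    rw [IsScalarTower.algebraMap_apply H M L, Algebra.norm_algebraMap, hL]
  have hint : ∀ b : B, ∃ d : H, algebraMap H M d = Algebra.norm M (b : L) := fun b =>
    IsIntegrallyClosed.isIntegral_iff.1 (Algebra.isIntegral_norm M b.2)
  obtain ⟨d, hd⟩ := hint w
  obtain ⟨d', hd'⟩ := hint ↑w⁻¹
  have hdu : IsUnit d := .of_mul_eq_one d' (IsFractionRing.injective H M (by
    rw [map_mul, hd, hd', ← map_mul, map_one, ← map_one (Algebra.norm M (S := L))]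
    exact congrArg _ (congrArg Subtype.val w.mul_inv)))
  have h4 : c ^ p * ϖ = (ϖ ^ n) ^ p * d := by
    apply IsFractionRing.injective H M
    rw [map_mul, map_mul, map_pow, map_pow (algebraMap H M) (ϖ ^ n), ← hy, ← hN, ← hN, hd, ← map_mul, ← map_mul, hyw]
  obtain ⟨i, v, rfl⟩ := IsDiscreteValuationRing.eq_unit_mul_pow_irreducible hc0 hϖ
  have hass : Associated (ϖ ^ (i * p + 1)) (ϖ ^ (n * p)) := by
    have h5 : ϖ ^ (i * p + 1) * ((v : H) ^ p) = ϖ ^ (n * p) * d := by
      rw [pow_succ, pow_mul, pow_mul, ← h4, mul_pow]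
      ring
    exact (associated_mul_unit_right _ _ (v.isUnit.pow p)).trans (h5 ▸ (associated_mul_unit_right _ _ hdu).symm)
  have h6 := le_antisymm ((pow_dvd_pow_iff hϖ.ne_zero hϖ.not_isUnit).1 hass.dvd)
    ((pow_dvd_pow_iff hϖ.ne_zero hϖ.not_isUnit).1 hass.symm.dvd)
  have h7 : p ∣ 1 := (Nat.dvd_add_right (dvd_mul_left p i)).1 (h6 ▸ dvd_mul_left p n)
  exact hp.out.ne_one (Nat.dvd_one.1 h7)

/-- **`cd_p(K) ≤ 1` gives `cd_p(k) ≤ 0`.** -/
theorem cohDimLEAt_residue_zero (V : Type u) [CommRing V] [IsDomain V] [IsDiscreteValuationRing V] (p : ℕ)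
    [hp : Fact p.Prime] (hpk : (p : IsLocalRing.ResidueField V) = 0) (hpV : (p : V) ≠ 0)
    (h : Dix.CohDimLEAt (Spec (CommRingCat.of (FractionRing V))) p 1) :
    Dix.CohDimLEAt (Spec (CommRingCat.of (IsLocalRing.ResidueField V))) p 0 := by
  refine Lower.cohDimLEAt_of_finite _ p 0 fun L _ _ _ _ => ?_
  obtain ⟨H, _, _, _, _, hH1, hH2, ⟨ε⟩⟩ := Lower.exists_lift_dvr V h L
  haveI : CharP (IsLocalRing.ResidueField V) p := (CharP.charP_iff_prime_eq_zero hp.out).2 hpk
  haveI : CharP L p := charP_of_injective_ringHom (algebraMap (IsLocalRing.ResidueField V) L).injective p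
  haveI : CharP (IsLocalRing.ResidueField H) p := charP_of_injective_ringHom (f := ε.symm.toRingHom) ε.symm.injective p
  refine subsingleton_H1_of_AS L p fun a => ?_
  obtain ⟨x, hx⟩ := exists_AS_root H p ((hH1 p).2 hpV) hH2 (ε.symm a)
  exact ⟨ε x, by rw [← map_pow, ← map_sub, hx, RingEquiv.apply_symm_apply]⟩

end Groth.Agent.H05EGA4.EtCl.Mixed
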